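import Groth.Agent.Lib.THeart.Abelian
import Mathlib.CategoryTheory.Idempotents.Basic

/-!
Idempotents in triangulated categories: splitting is stable under extensions; a triangulated
category with a bounded t-structure is idempotent complete.
-/

set_option autoImplicit false

universe v u

open CategoryTheory CategoryTheory.Limits CategoryTheory.Pretriangulated CategoryTheory.Triangulated

namespace Groth.Agent.TriIdem

variable {C : Type u} [Category.{v} C] [Preadditive C]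

theorem split_of_sub_sq_zero {X Y : C} (p : X ⟶ X) (i : Y ⟶ X) (e : X ⟶ Y) (hie : i ≫ e = 𝟙 Y)
    (hp : p ≫ p = p) (hpq : (p - e ≫ i) ≫ (p - e ≫ i) = 0) :
    ∃ (Z : C) (i' : Z ⟶ X) (e' : X ⟶ Z), i' ≫ e' = 𝟙 Z ∧ e' ≫ i' = p := by
  obtain ⟨q, hqdef⟩ : ∃ q, e ≫ i = q := ⟨_, rfl⟩
  have hq : q ≫ q = q := by rw [← hqdef, Category.assoc, reassoc_of% hie]
  rw [hqdef] at hpq
  have hqp : q ≫ p = p + q - p ≫ q := by
    simp only [Preadditive.sub_comp, Preadditive.comp_sub, hp, hq] at hpq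
    rw [← sub_eq_zero, ← neg_eq_zero, ← hpq]; abel
  obtain ⟨u, hu⟩ : ∃ u, p ≫ q + (𝟙 X - p) ≫ (𝟙 X - q) = u := ⟨_, rfl⟩
  obtain ⟨v, hv⟩ : ∃ v, q ≫ p + (𝟙 X - q) ≫ (𝟙 X - p) = v := ⟨_, rfl⟩
  have hpp : ∀ {Z : C} (h : X ⟶ Z), p ≫ p ≫ h = p ≫ h := fun h => by rw [reassoc_of% hp]
  have hqq : ∀ {Z : C} (h : X ⟶ Z), q ≫ q ≫ h = q ≫ h := fun h => by rw [reassoc_of% hq]
  have hqp' : ∀ {Z : C} (h : X ⟶ Z), q ≫ p ≫ h = p ≫ h + q ≫ h - p ≫ q ≫ h := fun h => by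
    rw [← Category.assoc, hqp, Preadditive.sub_comp, Preadditive.add_comp, Category.assoc]
  have huv : u ≫ v = 𝟙 X := by
    rw [← hu, ← hv]
    simp only [Preadditive.sub_comp, Preadditive.comp_sub, Preadditive.add_comp,
      Preadditive.comp_add, Category.id_comp, Category.comp_id, Category.assoc, hp, hq, hpp, hqq,
      hqp, hqp']
    abel
  have hvu : v ≫ u = 𝟙 X := by
    rw [← hu, ← hv]
    simp only [Preadditive.sub_comp, Preadditive.comp_sub, Preadditive.add_comp,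
      Preadditive.comp_add, Category.id_comp, Category.comp_id, Category.assoc, hp, hq, hpp, hqq,
      hqp, hqp']
    abel
  have h1 : u ≫ q = p ≫ u := by
    rw [← hu]
    simp only [Preadditive.sub_comp, Preadditive.comp_sub, Preadditive.add_comp,
      Preadditive.comp_add, Category.id_comp, Category.comp_id, Category.assoc, hp, hq, hpp]
    abel
  refine ⟨Y, i ≫ v, u ≫ e, ?_, ?_⟩
  · rw [Category.assoc, reassoc_of% hvu, hie]
  · rw [Category.assoc, reassoc_of% hqdef, reassoc_of% h1, huv, Category.comp_id]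

variable [HasZeroObject C] [HasShift C ℤ] [∀ n : ℤ, (shiftFunctor C n).Additive]
  [Pretriangulated C]

theorem split_of_triangle (T : Triangle C) (hT : T ∈ distTriang C) (φ : T ⟶ T)
    (hφ : φ.hom₂ ≫ φ.hom₂ = φ.hom₂)
    {Y₁ Y₃ : C} (i₁ : Y₁ ⟶ T.obj₁) (e₁ : T.obj₁ ⟶ Y₁) (h₁ : i₁ ≫ e₁ = 𝟙 Y₁) (h₁' : e₁ ≫ i₁ = φ.hom₁)
    (i₃ : Y₃ ⟶ T.obj₃) (e₃ : T.obj₃ ⟶ Y₃) (h₃ : i₃ ≫ e₃ = 𝟙 Y₃) (h₃' : e₃ ≫ i₃ = φ.hom₃) :
    ∃ (Z : C) (i : Z ⟶ T.obj₂) (e : T.obj₂ ⟶ Z), i ≫ e = 𝟙 Z ∧ e ≫ i = φ.hom₂ := by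
  obtain ⟨Y₂, f, g, hY⟩ := distinguished_cocone_triangle₂ (i₃ ≫ T.mor₃ ≫ e₁⟦(1 : ℤ)⟧')
  obtain ⟨i₂, hi1, hi2⟩ : ∃ i₂ : Y₂ ⟶ T.obj₂, f ≫ i₂ = i₁ ≫ T.mor₁ ∧ g ≫ i₃ = i₂ ≫ T.mor₂ :=
    complete_distinguished_triangle_morphism₂ _ _ hY hT i₁ i₃ (by
    change (i₃ ≫ T.mor₃ ≫ e₁⟦(1 : ℤ)⟧') ≫ i₁⟦(1 : ℤ)⟧' = i₃ ≫ T.mor₃
    rw [Category.assoc, Category.assoc, ← Functor.map_comp, h₁', φ.comm₃, ← h₃', Category.assoc,
      reassoc_of% h₃])
  obtain ⟨e₂, he1, he2⟩ : ∃ e₂ : T.obj₂ ⟶ Y₂, T.mor₁ ≫ e₂ = e₁ ≫ f ∧ T.mor₂ ≫ e₃ = e₂ ≫ g :=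
    complete_distinguished_triangle_morphism₂ _ _ hT hY e₁ e₃ (by
    change T.mor₃ ≫ e₁⟦(1 : ℤ)⟧' = e₃ ≫ (i₃ ≫ T.mor₃ ≫ e₁⟦(1 : ℤ)⟧')
    rw [reassoc_of% h₃', ← reassoc_of% φ.comm₃, ← Functor.map_comp, ← h₁', Category.assoc, h₁,
      Category.comp_id])
  have : IsIso (i₂ ≫ e₂) := by
    let ψ : Triangle.mk f g (i₃ ≫ T.mor₃ ≫ e₁⟦(1 : ℤ)⟧') ⟶ Triangle.mk f g (i₃ ≫ T.mor₃ ≫ e₁⟦(1 : ℤ)⟧') :=
      { hom₁ := 𝟙 Y₁
        hom₂ := i₂ ≫ e₂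
        hom₃ := 𝟙 Y₃
        comm₁ := by
          change f ≫ i₂ ≫ e₂ = 𝟙 Y₁ ≫ f
          rw [reassoc_of% hi1, he1, reassoc_of% h₁, Category.id_comp]
        comm₂ := by
          change g ≫ 𝟙 Y₃ = (i₂ ≫ e₂) ≫ g
          rw [Category.assoc, ← he2, ← reassoc_of% hi2, h₃, Category.comp_id]
        comm₃ := by
          change (i₃ ≫ T.mor₃ ≫ e₁⟦(1 : ℤ)⟧') ≫ (𝟙 Y₁)⟦(1 : ℤ)⟧' = 𝟙 Y₃ ≫ i₃ ≫ T.mor₃ ≫ e₁⟦(1 : ℤ)⟧'
          rw [CategoryTheory.Functor.map_id, Category.comp_id, Category.id_comp] }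
    exact isIso₂_of_isIso₁₃ ψ hY hY (inferInstanceAs (IsIso (𝟙 Y₁))) (inferInstanceAs (IsIso (𝟙 Y₃)))
  obtain ⟨j, hj⟩ : ∃ j, inv (i₂ ≫ e₂) = j := ⟨_, rfl⟩
  have hji : i₂ ≫ e₂ ≫ j = 𝟙 _ := by rw [← hj, ← Category.assoc, IsIso.hom_inv_id]
  have hf : f ≫ i₂ ≫ e₂ = f := by rw [reassoc_of% hi1, he1, reassoc_of% h₁]
  have hg : i₂ ≫ e₂ ≫ g = g := by rw [← he2, ← reassoc_of% hi2, h₃, Category.comp_id]
  have hfj : f ≫ j = f := by
    rw [← hj, IsIso.comp_inv_eq]; exact hf.symm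
  have hjg : j ≫ g = g := by
    rw [← hj, IsIso.inv_comp_eq, Category.assoc]; exact hg.symm
  have hz1 : T.mor₁ ≫ (φ.hom₂ - (e₂ ≫ j) ≫ i₂) = 0 := by
    rw [Preadditive.comp_sub, sub_eq_zero, φ.comm₁, ← h₁', Category.assoc, Category.assoc,
      reassoc_of% he1, reassoc_of% hfj, hi1]
  have hz2 : (φ.hom₂ - (e₂ ≫ j) ≫ i₂) ≫ T.mor₂ = 0 := by
    rw [Preadditive.sub_comp, sub_eq_zero, ← φ.comm₂, ← h₃', Category.assoc, Category.assoc,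
      ← hi2, reassoc_of% hjg, ← reassoc_of% he2]
  obtain ⟨k, hk⟩ := Triangle.yoneda_exact₂ _ hT _ hz1
  refine split_of_sub_sq_zero φ.hom₂ i₂ (e₂ ≫ j) hji hφ ?_
  conv_lhs => arg 2; rw [hk]
  rw [← Category.assoc, hz2, zero_comp]

variable [IsTriangulated C] (t : TStructure C)

theorem split_of_isLE_isGE (X : C) (a b : ℤ) [t.IsGE X a] [t.IsLE X b] (p : X ⟶ X) (hp : p ≫ p = p) :
    ∃ (Z : C) (i : Z ⟶ X) (e : X ⟶ Z), i ≫ e = 𝟙 Z ∧ e ≫ i = p := by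
  suffices H : ∀ (k : ℕ) (X : C) (a b : ℤ), t.IsGE X a → t.IsLE X b → b < a + k →
      ∀ (p : X ⟶ X), p ≫ p = p → ∃ (Z : C) (i : Z ⟶ X) (e : X ⟶ Z), i ≫ e = 𝟙 Z ∧ e ≫ i = p from
    H ((b - a).toNat + 1) X a b inferInstance inferInstance (by lia) p hp
  intro k
  induction k with
  | zero =>
    intro X a b ha hb hab p hp
    have hX := t.isZero X b a (by lia)
    exact ⟨X, 𝟙 X, 𝟙 X, Category.comp_id _, hX.eq_of_src _ _⟩
  | succ k ih =>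
    intro X a b ha hb hab p hp
    by_cases h : b < a + k
    · exact ih X a b ha hb h p hp
    rcases Nat.eq_zero_or_pos k with rfl | hk
    · obtain rfl : a = b := by lia
      letI := t.hasHeartFullSubcategory
      letI : Abelian t.heart.FullSubcategory := Groth.Agent.THeart.abelianHeart t
      have := t.isLE_shift X a a 0
      have := t.isGE_shift X a a 0
      let A : t.heart.FullSubcategory := ⟨X⟦a⟧, (t.mem_heart_iff _).2 ⟨inferInstance, inferInstance⟩⟩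
      obtain ⟨B, i, e, h1, h2⟩ := IsIdempotentComplete.idempotents_split A
        (ObjectProperty.homMk (p⟦a⟧')) (by
          apply t.heart.ι.map_injective
          change p⟦a⟧' ≫ p⟦a⟧' = p⟦a⟧'
          rw [← Functor.map_comp, hp])
      refine ⟨B.obj⟦-a⟧, i.hom⟦-a⟧' ≫ ((shiftEquiv C a).unitIso.inv.app X),
        (shiftEquiv C a).unitIso.hom.app X ≫ e.hom⟦-a⟧', ?_, ?_⟩
      · simp only [Category.assoc]
        erw [Iso.inv_hom_id_app_assoc, ← Functor.map_comp]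
        rw [show i.hom ≫ e.hom = 𝟙 _ from congrArg InducedCategory.Hom.hom h1,
          CategoryTheory.Functor.map_id]
      · simp only [Category.assoc]
        erw [← Functor.map_comp_assoc]
        erw [show e.hom ≫ i.hom = p⟦a⟧' from congrArg InducedCategory.Hom.hom h2]
        erw [(shiftEquiv C a).unitIso.inv.naturality p, Iso.hom_inv_id_app_assoc]
        rfl
    · let φ := (t.triangleLTGE b).map p
      have hφ : φ ≫ φ = φ := by rw [← Functor.map_comp, hp]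
      obtain ⟨Y₁, i₁, e₁, h₁, h₁'⟩ := ih ((t.truncLT b).obj X) a (b - 1) inferInstance
        inferInstance (by lia) φ.hom₁ (congrArg TriangleMorphism.hom₁ hφ)
      obtain ⟨Y₃, i₃, e₃, h₃, h₃'⟩ := ih ((t.truncGE b).obj X) b b inferInstance
        inferInstance (by lia) φ.hom₃ (congrArg TriangleMorphism.hom₃ hφ)
      exact split_of_triangle _ (t.triangleLTGE_distinguished b X) φ hp i₁ e₁ h₁ h₁' i₃ e₃ h₃ h₃'

theorem isIdempotentComplete (hb : ∀ X : C, t.bounded X) : IsIdempotentComplete C := by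
  refine ⟨fun X p hp => ?_⟩
  obtain ⟨⟨a, ha⟩, ⟨b, hb⟩⟩ := hb X
  exact split_of_isLE_isGE t X a b p hp

end Groth.Agent.TriIdem
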